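import Groth.Agent.SmoothPtLib.Scheme
import Groth.Agent.S10929
import Groth.Agent.AmpleDevLib.Components
import Groth.Agent.EquidimLib.OpenComponent

/-! The image of the locus where the tangent map has rank at most `r` has dimension at most `r`
(characteristic zero). -/

set_option autoImplicit false
set_option backward.isDefEq.respectTransparency false
set_option backward.isDefEq.respectTransparency.types false

universe u

open CategoryTheory CategoryTheory.Limits AlgebraicGeometry TopologicalSpace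

namespace TanRankLib

open IsLocalRing in
/-- If the cotangent map of `φ : A → B` is injective, `A` is a quotient of `A'` and the composite
`A' → B' → B` has cotangent image spanned by a set `S`, then `dim m_A/m_A² ≤ #S`. -/
theorem finrank_cotangent_le_card {A' A B' B : Type u} [CommRing A'] [CommRing A] [CommRing B'] [CommRing B]
    [IsLocalRing A'] [IsLocalRing A] [IsLocalRing B'] [IsLocalRing B] [IsNoetherianRing A] [IsNoetherianRing B]
    (ψ : A' →+* A) (hψ : Function.Surjective ψ) (φ' : A' →+* B') (ι : B' →+* B) (φ : A →+* B)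
    (hcomm : φ.comp ψ = ι.comp φ')
    (hres : Function.Surjective ((residue B).comp φ))
    (hA : maximalIdeal A ≤ (maximalIdeal B).comap φ.toIntAlgHom)
    (hA' : maximalIdeal A' ≤ (maximalIdeal B').comap φ'.toIntAlgHom)
    (hι : maximalIdeal B' ≤ (maximalIdeal B).comap ι.toIntAlgHom)
    (hinj : Function.Injective (Ideal.mapCotangent _ _ φ.toIntAlgHom hA))
    (S : Finset (CotangentSpace B'))
    (hS : ∀ a : maximalIdeal A', Ideal.mapCotangent _ _ φ'.toIntAlgHom hA' ((maximalIdeal A').toCotangent a) ∈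
      Submodule.span (ResidueField B') (S : Set (CotangentSpace B'))) :
    Module.finrank (ResidueField A) (CotangentSpace A) ≤ S.card := by
  classical
  let LA : CotangentSpace A →ₗ[ℤ] CotangentSpace B := Ideal.mapCotangent _ _ φ.toIntAlgHom hA
  let LB : CotangentSpace B' →ₗ[ℤ] CotangentSpace B := Ideal.mapCotangent _ _ ι.toIntAlgHom hι
  let P : Submodule (ResidueField B) (CotangentSpace B) := Submodule.span _ (LB '' (S : Set _))
  have hsmul : ∀ (b : B') (w : CotangentSpace B'), LB (residue B' b • w) = residue B (ι b) • LB w := by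
    intro b w
    obtain ⟨m, rfl⟩ := Ideal.toCotangent_surjective _ w
    rw [show residue B' b • (maximalIdeal B').toCotangent m = (maximalIdeal B').toCotangent (b • m) from
      (map_smul (maximalIdeal B').toCotangent b m).symm]
    rw [Ideal.mapCotangent_toCotangent, Ideal.mapCotangent_toCotangent]
    refine Eq.trans ?_ (map_smul (maximalIdeal B).toCotangent (ι b) _)
    exact congrArg _ (Subtype.ext (map_mul ι b m.1))
  have hP : ∀ w ∈ Submodule.span (ResidueField B') (S : Set (CotangentSpace B')), LB w ∈ P := by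
    intro w hw
    induction hw using Submodule.span_induction with
    | mem x hx => exact Submodule.subset_span ⟨x, hx, rfl⟩
    | zero => rw [map_zero]; exact P.zero_mem
    | add x y _ _ hx hy => rw [map_add]; exact P.add_mem hx hy
    | smul c x _ hx =>
      obtain ⟨b, rfl⟩ := residue_surjective c
      rw [hsmul]
      exact P.smul_mem _ hx
  have hmem : ∀ z, LA z ∈ P := by
    intro z
    obtain ⟨a, rfl⟩ := Ideal.toCotangent_surjective _ z
    obtain ⟨a', ha'⟩ := hψ a.1
    have ha'm : a' ∈ maximalIdeal A' := by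
      by_contra h
      exact a.2 (ha' ▸ (notMem_maximalIdeal.1 h).map ψ)
    have h := hP _ (hS ⟨a', ha'm⟩)
    rw [Ideal.mapCotangent_toCotangent, Ideal.mapCotangent_toCotangent] at h
    rw [Ideal.mapCotangent_toCotangent]
    convert h using 2
    refine Subtype.ext ?_
    show φ a.1 = ι (φ' a')
    rw [← ha']
    exact RingHom.congr_fun hcomm a'
  have hsmulA : ∀ (a : A) (w : CotangentSpace A), LA (residue A a • w) = residue B (φ a) • LA w := by
    intro b w
    obtain ⟨m, rfl⟩ := Ideal.toCotangent_surjective _ w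
    rw [show residue A b • (maximalIdeal A).toCotangent m = (maximalIdeal A).toCotangent (b • m) from
      (map_smul (maximalIdeal A).toCotangent b m).symm]
    rw [Ideal.mapCotangent_toCotangent, Ideal.mapCotangent_toCotangent]
    refine Eq.trans ?_ (map_smul (maximalIdeal B).toCotangent (φ b) _)
    exact congrArg _ (Subtype.ext (map_mul φ b m.1))
  let v := Module.finBasis (ResidueField A) (CotangentSpace A)
  let w : Fin (Module.finrank (ResidueField A) (CotangentSpace A)) → P := fun i => ⟨LA (v i), hmem _⟩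
  have hw : LinearIndependent (ResidueField B) w := by
    rw [Fintype.linearIndependent_iff]
    intro g hg i
    choose a ha using fun j => hres (g j)
    have h0 : LA (∑ j, residue A (a j) • v j) = 0 := by
      rw [map_sum]
      have := congrArg Subtype.val hg
      simp only [Submodule.coe_sum, Submodule.coe_smul, ZeroMemClass.coe_zero, w] at this
      refine (Finset.sum_congr rfl fun j _ => ?_).trans this
      rw [hsmulA]
      exact congrArg (· • LA (v j)) (ha j)
    have h1 : ∑ j, residue A (a j) • v j = 0 := hinj (h0.trans (map_zero LA).symm)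
    have h2 := Fintype.linearIndependent_iff.1 v.linearIndependent _ h1 i
    rw [residue_eq_zero_iff] at h2
    rw [← ha i]
    exact (residue_eq_zero_iff _).2 (hA h2)
  haveI : Module.Finite (ResidueField B) P := Module.Finite.span_of_finite _ (S.finite_toSet.image LB)
  have h1 := hw.fintype_card_le_finrank
  rw [Fintype.card_fin] at h1
  have e : P = Submodule.span (ResidueField B) ((S.image LB : Finset _) : Set (CotangentSpace B)) := by
    rw [Finset.coe_image]
  have h2 : Module.finrank (ResidueField B) P ≤ (S.image LB).card := by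
    rw [e]; exact finrank_span_finset_le_card _
  exact h1.trans (h2.trans Finset.card_image_le)

theorem stalkMapAt_rfl' {X Y : Scheme.{u}} (f : X ⟶ Y) (x : X) :
    FixPt.stalkMapAt f x (f.base x) rfl = (f.stalkMap x).hom := by
  have h : (Y.presheaf.stalkCongr (Inseparable.of_eq (rfl : f x = f.base x))).inv = 𝟙 _ := by
    simp [TopCat.Presheaf.stalkCongr]
  rw [FixPt.stalkMapAt, h, Category.id_comp]

variable {k : Type u} [Field k] [IsAlgClosed k]

/-- The dimension of the cotangent space at a closed point of a smooth irreducible scheme. -/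
theorem finrank_cotangent_eq {U : Scheme.{u}} [IrreducibleSpace U] (q : U ⟶ Spec (CommRingCat.of k)) [Smooth q]
    {z : U} (hz : IsClosed ({z} : Set U)) :
    (Module.finrank (IsLocalRing.ResidueField (U.presheaf.stalk z))
      (IsLocalRing.CotangentSpace (U.presheaf.stalk z)) : WithBot ℕ∞) = topologicalKrullDim U := by
  letI : U.Over (Spec (CommRingCat.of k)) := ⟨q⟩
  haveI : Smooth (U ↘ Spec (CommRingCat.of k)) := ‹Smooth q›
  letI := Curv2.stalkAlgebra k U z
  haveI hE : Algebra.EssFiniteType k (U.presheaf.stalk z) := NodalLib.essFiniteType_stalk k z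
  haveI hF : Algebra.FormallySmooth k (U.presheaf.stalk z) :=
    (NodalLib.mem_smoothLocus_iff_stalk k z).1 (by rw [Scheme.Hom.smoothLocus_eq_top]; trivial)
  haveI : IsLocallyNoetherian U := LocallyOfFiniteType.isLocallyNoetherian q
  haveI : IsRegularLocalRing (U.presheaf.stalk z) := CohenLib.isRegularLocalRing_of_formallySmooth (k := k)
  have h := (IsRegularLocalRing.iff_finrank_cotangentSpace (R := U.presheaf.stalk z)).1 inferInstance
  rw [← FibDimLib.localDim_eq_stalk_of_isClosed q hz, FibDimLib.localDim_of_irreducible q z] at h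
  exact_mod_cast h

variable {X Y : Scheme.{u}} (qX : X ⟶ Spec (CommRingCat.of k)) (qY : Y ⟶ Spec (CommRingCat.of k))

/-- One irreducible piece. -/
theorem dim_le_of_dense [CharZero k] [LocallyOfFiniteType qX] [QuasiCompact qX] [LocallyOfFiniteType qY]
    [QuasiCompact qY] (f : X ⟶ Y) (hf : f ≫ qY = qX) (r : ℕ) (S : Set X) (W : Set X) (hW : IsClosed W)
    (hWi : IsIrreducible W) (hWS : W ⊆ closure (W ∩ S))
    (hS : ∀ x ∈ S, IsClosed ({x} : Set X) ∧
      ∃ T : Finset (IsLocalRing.CotangentSpace (X.presheaf.stalk x)), T.card ≤ r ∧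
        (LinearMap.range (FixPt.cotangentMapAt f x (f.base x) rfl) : Set (IsLocalRing.CotangentSpace (X.presheaf.stalk x))) ⊆
          (Submodule.span (IsLocalRing.ResidueField (X.presheaf.stalk x))
            (T : Set (IsLocalRing.CotangentSpace (X.presheaf.stalk x))) : Set (IsLocalRing.CotangentSpace (X.presheaf.stalk x)))) :
    topologicalKrullDim ↥(closure (f.base '' W)) ≤ r := by
  let WC : Closeds X := ⟨W, hW⟩
  let ZC : Closeds Y := ⟨closure (f.base '' W), isClosed_closure⟩
  let IW := Scheme.IdealSheafData.vanishingIdeal WC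
  let IZ := Scheme.IdealSheafData.vanishingIdeal ZC
  haveI : IsIntegral IW.subscheme := AmpleDevLib.isIntegral_vanishingIdeal WC hWi
  haveI : IsIntegral IZ.subscheme := AmpleDevLib.isIntegral_vanishingIdeal ZC
    (hWi.image _ f.continuous.continuousOn).closure
  have hrW : Set.range IW.subschemeι = W :=
    IW.range_subschemeι.trans (Scheme.IdealSheafData.coe_support_vanishingIdeal WC)
  have hrZ : Set.range IZ.subschemeι = closure (f.base '' W) :=
    IZ.range_subschemeι.trans (Scheme.IdealSheafData.coe_support_vanishingIdeal ZC)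
  have hle : IZ.subschemeι.ker ≤ (IW.subschemeι ≫ f).ker := by
    rw [Scheme.IdealSheafData.ker_subschemeι]
    refine AmpleDevLib.vanishingIdeal_le_ker_of_range _ _ ?_
    rintro _ ⟨w, rfl⟩
    exact subset_closure ⟨IW.subschemeι w, hrW.le ⟨w, rfl⟩, rfl⟩
  let g : IW.subscheme ⟶ IZ.subscheme := IsClosedImmersion.lift IZ.subschemeι _ hle
  have hg : g ≫ IZ.subschemeι = IW.subschemeι ≫ f := IsClosedImmersion.lift_fac _ _ _
  have hgq : g ≫ (IZ.subschemeι ≫ qY) = IW.subschemeι ≫ qX := by rw [reassoc_of% hg, hf]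
  have hgd : DenseRange g.base := by
    intro z
    rw [IZ.subschemeι.isEmbedding.isInducing.closure_eq_preimage_closure_image]
    show IZ.subschemeι z ∈ closure _
    refine closure_mono ?_ (hrZ.le ⟨z, rfl⟩)
    rintro _ ⟨x, hx, rfl⟩
    obtain ⟨w, rfl⟩ := hrW.ge hx
    exact ⟨g w, ⟨w, rfl⟩, by rw [← Scheme.Hom.comp_apply, hg]; rfl⟩
  haveI hIk : IsIntegral (Spec (CommRingCat.of k)) := inferInstance
  obtain ⟨U₀, hU₀, hU₀s⟩ := Groth.Agent.S10929.result k (IZ.subschemeι ≫ qY) (𝟙 (Spec (CommRingCat.of k)))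
    (IZ.subschemeι ≫ qY) (Category.comp_id _) (by
      intro a
      refine subset_closure ⟨genericPoint IZ.subscheme, ?_⟩
      exact Subsingleton.elim (α := PrimeSpectrum k) _ _)
  obtain ⟨V₀, hV₀, hV₀s⟩ := Groth.Agent.S10929.result k (IW.subschemeι ≫ qX) (IZ.subschemeι ≫ qY) g hgq hgd
  obtain ⟨z₀, hz₀U⟩ := hgd.exists_mem_open U₀.isOpen hU₀
  have hη : genericPoint IW.subscheme ∈ V₀ ⊓ g ⁻¹ᵁ U₀ :=
    ⟨(genericPoint_spec _).mem_open_set_iff V₀.isOpen |>.2 (by simpa using hV₀),
      (genericPoint_spec _).mem_open_set_iff (g ⁻¹ᵁ U₀).isOpen |>.2 (by simpa using ⟨_, hz₀U⟩)⟩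
  let V : IW.subscheme.Opens := V₀ ⊓ g ⁻¹ᵁ U₀
  obtain ⟨O, hO, hOV⟩ := IW.subschemeι.isEmbedding.isInducing.isOpen_iff.mp V.isOpen
  have hOW : (O ∩ W).Nonempty := by
    refine ⟨IW.subschemeι (genericPoint IW.subscheme), ?_, hrW.le ⟨_, rfl⟩⟩
    have : genericPoint IW.subscheme ∈ IW.subschemeι ⁻¹' O := by rw [hOV]; exact hη
    exact this
  obtain ⟨x, hxO, hxW, hxS⟩ : ∃ x, x ∈ O ∧ x ∈ W ∧ x ∈ S := by
    obtain ⟨y, hyO, hyW⟩ := hOW
    obtain ⟨x, hx1, hx2, hx3⟩ := mem_closure_iff.1 (hWS hyW) O hO hyO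
    exact ⟨x, hx1, hx2, hx3⟩
  obtain ⟨w, rfl⟩ := hrW.ge hxW
  obtain ⟨hxc, T, hTc, hT⟩ := hS _ hxS
  have hwV : w ∈ V := by rw [← SetLike.mem_coe, ← hOV]; exact hxO
  have hwc : IsClosed ({w} : Set IW.subscheme) := by
    have := hxc.preimage IW.subschemeι.continuous
    rwa [← Set.image_singleton, IW.subschemeι.isEmbedding.injective.preimage_image] at this
  -- pass to the open pieces
  let v : (V : Scheme.{u}) := ⟨w, hwV⟩
  have hvc : IsClosed ({v} : Set (V : Scheme.{u})) := by
    have := hwc.preimage V.ι.continuous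
    rwa [show V.ι ⁻¹' {w} = {v} from by ext a; exact ⟨fun h => Subtype.ext h, fun h => congrArg Subtype.val h⟩] at this
  let h : (V : Scheme.{u}) ⟶ (U₀ : Scheme.{u}) := IsOpenImmersion.lift U₀.ι (V.ι ≫ g) (by
    rw [Scheme.Opens.range_ι]; rintro _ ⟨a, rfl⟩; exact a.2.2)
  have hh : h ≫ U₀.ι = V.ι ≫ g := IsOpenImmersion.lift_fac _ _ _
  haveI : Smooth h := by
    haveI : Smooth (V.ι ≫ g) := by
      rw [← Scheme.homOfLE_ι _ (inf_le_left : V ≤ V₀), Category.assoc]
      infer_instance
    exact MorphismProperty.of_postcomp (W := @Smooth) (W' := @IsOpenImmersion) h U₀.ι inferInstance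
      (by rw [hh]; infer_instance)
  haveI : IsIntegral (U₀ : Scheme.{u}) := by
    haveI : Nonempty U₀ := hU₀.to_subtype
    exact isIntegral_of_isOpenImmersion U₀.ι
  haveI : IsIntegral (V : Scheme.{u}) := by
    haveI : Nonempty V := ⟨v⟩
    exact isIntegral_of_isOpenImmersion V.ι
  letI : (U₀ : Scheme.{u}).Over (Spec (CommRingCat.of k)) := ⟨U₀.ι ≫ IZ.subschemeι ≫ qY⟩
  letI : (V : Scheme.{u}).Over (Spec (CommRingCat.of k)) := ⟨V.ι ≫ IW.subschemeι ≫ qX⟩
  haveI : Smooth ((U₀ : Scheme.{u}) ↘ Spec (CommRingCat.of k)) := hU₀s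
  have hhq : h ≫ ((U₀ : Scheme.{u}) ↘ Spec (CommRingCat.of k)) = (V : Scheme.{u}) ↘ Spec (CommRingCat.of k) := by
    show h ≫ U₀.ι ≫ IZ.subschemeι ≫ qY = V.ι ≫ IW.subschemeι ≫ qX
    rw [reassoc_of% hh, ← hgq]
  haveI : Smooth ((V : Scheme.{u}) ↘ Spec (CommRingCat.of k)) := by rw [← hhq]; infer_instance
  obtain ⟨dU, hdU⟩ : ∃ d : WithBot ℕ∞, topologicalKrullDim (U₀ : Scheme.{u}) = d := ⟨_, rfl⟩
  have hzc : IsClosed ({h v} : Set (U₀ : Scheme.{u})) :=
    SmoothPtLib.isClosed_image (k := k) h hhq hvc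
  have hdim := finrank_cotangent_eq (U₀.ι ≫ IZ.subschemeι ≫ qY) hzc
  have hvdim := finrank_cotangent_eq ((V : Scheme.{u}) ↘ Spec (CommRingCat.of k)) hvc
  have hinj := (SmoothPtLib.formallySmooth_iff_injective (k := k) hdim.symm h hhq hvdim.symm hvc).1.2
    (Scheme.Hom.mem_smoothLocus.1 (by rw [Scheme.Hom.smoothLocus_eq_top]; trivial))
  -- the square of stalks
  have hsq : (V.ι ≫ IW.subschemeι) ≫ f = h ≫ U₀.ι ≫ IZ.subschemeι := by
    rw [reassoc_of% hh, Category.assoc, hg]
  let ψ := (Y.presheaf.stalkCongr (Inseparable.of_eq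
    (show f ((V.ι ≫ IW.subschemeι) v) = (U₀.ι ≫ IZ.subschemeι) (h v) by
      rw [← Scheme.Hom.comp_apply, ← Scheme.Hom.comp_apply, hsq]))).hom ≫
      (U₀.ι ≫ IZ.subschemeι).stalkMap (h v)
  have hcomm : ψ ≫ h.stalkMap v = f.stalkMap ((V.ι ≫ IW.subschemeι) v) ≫ (V.ι ≫ IW.subschemeι).stalkMap v := by
    rw [← Scheme.Hom.stalkMap_comp, Scheme.Hom.stalkMap_congr_hom _ _ hsq v]
    simp only [ψ, Category.assoc, Scheme.Hom.stalkMap_comp]
  have hψ : Function.Surjective ψ.hom := by
    have h1 := (U₀.ι ≫ IZ.subschemeι).stalkMap_surjective (h v)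
    have h2 := (ConcreteCategory.bijective_of_isIso (Y.presheaf.stalkCongr (Inseparable.of_eq
      (show f ((V.ι ≫ IW.subschemeι) v) = (U₀.ι ≫ IZ.subschemeι) (h v) by
        rw [← Scheme.Hom.comp_apply, ← Scheme.Hom.comp_apply, hsq]))).hom).2
    exact h1.comp h2
  have hres : Function.Surjective ((IsLocalRing.residue ((V : Scheme.{u}).presheaf.stalk v)).comp (h.stalkMap v).hom) := by
    intro c
    obtain ⟨a, ha⟩ := (SmoothPtLib.bijective_residue (k := k) hvc).2 c
    refine ⟨Curv2.stalkMap k (U₀ : Scheme.{u}) (h v) a, ?_⟩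
    rw [RingHom.comp_apply, SmoothPtLib.stalkMap_tower (k := k) h hhq v a]
    exact ha
  haveI : IsLocallyNoetherian (U₀ : Scheme.{u}) :=
    LocallyOfFiniteType.isLocallyNoetherian (U₀.ι ≫ IZ.subschemeι ≫ qY)
  haveI : IsLocallyNoetherian (V : Scheme.{u}) :=
    LocallyOfFiniteType.isLocallyNoetherian ((V : Scheme.{u}) ↘ Spec (CommRingCat.of k))
  have key := finrank_cotangent_le_card (A' := Y.presheaf.stalk (f ((V.ι ≫ IW.subschemeι) v)))
    (B' := X.presheaf.stalk ((V.ι ≫ IW.subschemeι) v))
    ψ.hom hψ (f.stalkMap _).hom ((V.ι ≫ IW.subschemeι).stalkMap v).hom (h.stalkMap v).hom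
    (congrArg CommRingCat.Hom.hom hcomm) hres
    (fun a ha => map_nonunit (h.stalkMap v).hom a ha) (fun a ha => map_nonunit (f.stalkMap _).hom a ha)
    (fun a ha => map_nonunit ((V.ι ≫ IW.subschemeι).stalkMap v).hom a ha) (by
      intro a b hab
      refine hinj ?_
      obtain ⟨a, rfl⟩ := Ideal.toCotangent_surjective _ a
      obtain ⟨b, rfl⟩ := Ideal.toCotangent_surjective _ b
      rw [Ideal.mapCotangent_toCotangent, Ideal.mapCotangent_toCotangent] at hab
      simp only [FixPt.cotangentMapAt]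
      erw [Ideal.mapCotangent_toCotangent, Ideal.mapCotangent_toCotangent]
      simp only [stalkMapAt_rfl']
      exact hab) T (fun a => by
      have hm := hT ⟨(IsLocalRing.maximalIdeal _).toCotangent a, rfl⟩
      refine Eq.subst (motive := fun t => t ∈ Submodule.span _ _) ?_ hm
      simp only [FixPt.cotangentMapAt]
      erw [Ideal.mapCotangent_toCotangent, Ideal.mapCotangent_toCotangent]
      refine congrArg _ (Subtype.ext ?_)
      show FixPt.stalkMapAt f _ (f.base _) rfl a.1 = _
      rw [stalkMapAt_rfl']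
      rfl)
  calc topologicalKrullDim ↥(closure (f.base '' W)) = topologicalKrullDim IZ.subscheme :=
        (IsHomeomorph.topologicalKrullDim_eq _
          (IZ.subschemeι.isEmbedding.toHomeomorph.trans (Homeomorph.setCongr hrZ)).isHomeomorph).symm
    _ = FlatMor.localDim IZ.subscheme (U₀.ι (h v)) := (FibDimLib.localDim_of_irreducible (IZ.subschemeι ≫ qY) _).symm
    _ = FlatMor.localDim (U₀ : Scheme.{u}) (h v) :=
        FibDimLib.localDim_eq_of_isOpenEmbedding U₀.ι.isOpenEmbedding (h v)
    _ = topologicalKrullDim (U₀ : Scheme.{u}) := FibDimLib.localDim_of_irreducible (U₀.ι ≫ IZ.subschemeι ≫ qY) _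
    _ = _ := hdim.symm
    _ ≤ (r : WithBot ℕ∞) := by exact_mod_cast key.trans hTc

end TanRankLib
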